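import Cfsg.Agent.H92.RB.Def
import Cfsg.Agent.H675.F43.Rel

/-!
# The form of `V₁₄` is invariant (S2464, `F₄(3)`; helper194)

* `BB_act` : `BB (X u) (X v) = BB u v` for `Rel A X`; additivity and nondegeneracy of `BB`.
-/

set_option autoImplicit false

namespace Cfsg.Agent.H194.RB

open Matrix Cfsg.Agent.H700.F43 Cfsg.Agent.H675.F43 Cfsg.Agent.H92.RB

theorem BB_add_left (u u' v : V14) : BB (u + u') v = BB u v + BB u' v := by
  simp only [BB, Pi.add_apply]; ring

theorem BB_add_right (u v v' : V14) : BB u (v + v') = BB u v + BB u v' := by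
  simp only [BB, Pi.add_apply]; ring

theorem BB_zero_left (v : V14) : BB 0 v = 0 := by simp [BB]

theorem BB_zero_right (v : V14) : BB v 0 = 0 := by simp [BB]

theorem BB_neg_left (u v : V14) : BB (-u) v = -BB u v := by
  simp only [BB, Pi.neg_apply]; ring

theorem BB_neg_right (u v : V14) : BB u (-v) = -BB u v := by
  simp only [BB, Pi.neg_apply]; ring

theorem BB_sub_left (u u' v : V14) : BB (u - u') v = BB u v - BB u' v := by
  simp only [BB, Pi.sub_apply]; ring

theorem BB_sub_right (u v v' : V14) : BB u (v - v') = BB u v - BB u v' := by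
  simp only [BB, Pi.sub_apply]; ring

theorem BB_smul_left (c : F3) (u v : V14) : BB (c • u) v = c * BB u v := by
  simp only [BB, Pi.smul_apply, smul_eq_mul]; ring

theorem BB_smul_right (c : F3) (u v : V14) : BB u (c • v) = c * BB u v := by
  simp only [BB, Pi.smul_apply, smul_eq_mul]; ring

theorem BB_symm (u v : V14) : BB u v = -BB v u := by
  simp only [BB]; ring

theorem BB_self (u : V14) : BB u u = 0 := by
  simp only [BB]; ring

/-- nondegeneracy -/
theorem exists_BB {v : V14} (hv : v ≠ 0) : ∃ u, BB u v ≠ 0 := by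
  by_contra hcon
  push Not at hcon
  apply hv
  have h := fun k : Fin 14 => hcon (Pi.single k 1)
  funext k
  fin_cases k
  · simpa [BB, Pi.single_apply] using h 13
  · simpa [BB, Pi.single_apply] using h 7
  · simpa [BB, Pi.single_apply] using h 8
  · simpa [BB, Pi.single_apply] using h 9
  · simpa [BB, Pi.single_apply] using h 10
  · simpa [BB, Pi.single_apply] using h 11
  · simpa [BB, Pi.single_apply] using h 12
  · simpa [BB, Pi.single_apply] using h 1
  · simpa [BB, Pi.single_apply] using h 2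
  · simpa [BB, Pi.single_apply] using h 3
  · simpa [BB, Pi.single_apply] using h 4
  · simpa [BB, Pi.single_apply] using h 5
  · simpa [BB, Pi.single_apply] using h 6
  · simpa [BB, Pi.single_apply] using h 0

set_option maxHeartbeats 4000000 in
theorem BB_uu (T : Matrix (Fin 3) (Fin 3) F3) (u v : V14) : BB (Xuu T u) (Xuu T v) = BB u v := by
  simp only [BB, Xuu, LinearMap.coe_mk, AddHom.coe_mk]
  simp
  rw [← sub_eq_zero]
  ring_nf
  have h3 : (3 : F3) = 0 := by decide
  have h6 : (6 : F3) = 0 := by decide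
  simp only [h3, h6, mul_zero, neg_zero, add_zero, sub_zero]

set_option maxHeartbeats 4000000 in
theorem BB_vv (T : Matrix (Fin 3) (Fin 3) F3) (u v : V14) : BB (Xvv T u) (Xvv T v) = BB u v := by
  simp only [BB, Xvv, LinearMap.coe_mk, AddHom.coe_mk]
  simp
  rw [← sub_eq_zero]
  ring_nf
  have h3 : (3 : F3) = 0 := by decide
  have h6 : (6 : F3) = 0 := by decide
  simp only [h3, h6, mul_zero, neg_zero, add_zero, sub_zero]

theorem BB_act' (A : Sp) : ∃ X : V14 →ₗ[F3] V14, Rel A X ∧ ∀ u v, BB (X u) (X v) = BB u v := by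
  have h : A ∈ Subgroup.closure {A : Sp | (∃ T, ∃ hT : Tᵀ = T, A = uu T hT) ∨ ∃ S, ∃ hS : Sᵀ = S, A = vv S hS} := by
    rw [H980.F43.gen_sp]
    trivial
  induction h using Subgroup.closure_induction'' with
  | mem x hx =>
    rcases hx with ⟨T, hT, rfl⟩ | ⟨T, hT, rfl⟩
    · exact ⟨_, rel_uu T hT, BB_uu T⟩
    · exact ⟨_, rel_vv T hT, BB_vv T⟩
  | inv_mem x hx =>
    rcases hx with ⟨T, hT, rfl⟩ | ⟨T, hT, rfl⟩
    · rw [uu_inv]
      exact ⟨_, rel_uu _ _, BB_uu _⟩
    · rw [vv_inv]
      exact ⟨_, rel_vv _ _, BB_vv _⟩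
  | one => exact ⟨1, Rel.one, fun _ _ => rfl⟩
  | mul x y _ _ hx hy =>
    obtain ⟨X, hX, hX'⟩ := hx
    obtain ⟨Y, hY, hY'⟩ := hy
    refine ⟨X * Y, hX.mul hY, fun u v => ?_⟩
    change BB (X (Y u)) (X (Y v)) = _
    rw [hX', hY']

/-- **The form is invariant.** -/
theorem BB_act {A : Sp} {X : V14 →ₗ[F3] V14} (h : Rel A X) (u v : V14) : BB (X u) (X v) = BB u v := by
  obtain ⟨Y, hY, h2⟩ := BB_act' A
  rw [rel_unique h hY]
  exact h2 u v

end Cfsg.Agent.H194.RB
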